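import Mathlib.FieldTheory.IsPerfectClosure
import Mathlib.RingTheory.Flat.EquationalCriterion
import Mathlib.RingTheory.RingHom.FaithfullyFlat
import Mathlib.RingTheory.Spectrum.Prime.Homeomorph

/-!
# Flatness of maps of perfect closures
-/

set_option autoImplicit false

universe u

namespace Groth.L16.PerfFlat

variable (p : ℕ) [Fact p.Prime] {A B A' B' : Type u} [CommRing A] [CommRing B] [CommRing A'] [CommRing B']
  [CharP A p] [CharP B p] [CharP A' p] [CharP B' p] [PerfectRing A' p] [PerfectRing B' p]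
  (φ : A →+* B) (i : A →+* A') (j : B →+* B') [IsPRadical i p] [IsPRadical j p]
  (φ' : A' →+* B')

omit [CharP A p] [CharP A' p] [PerfectRing A' p] [IsPRadical i p] in
/-- Finitely many elements have `p`-power roots from the ring at a common level. -/
theorem exists_common {K L : Type u} [CommRing K] [CommRing L] (ψ : K →+* L) [IsPRadical ψ p]
    {l : ℕ} (x : Fin l → L) : ∃ n : ℕ, ∀ m, n ≤ m → ∃ a : Fin l → K, ∀ t, ψ (a t) = x t ^ p ^ m := by
  classical
  choose e a ha using fun t => IsPRadical.pow_mem ψ p (x t)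
  refine ⟨Finset.univ.sup e, fun m hm => ⟨fun t => a t ^ p ^ (m - e t), fun t => ?_⟩⟩
  rw [map_pow, ha, ← pow_mul, ← pow_add, Nat.add_sub_cancel' ((Finset.le_sup (Finset.mem_univ t)).trans hm)]

variable (hφ : φ'.comp i = j.comp φ)

include p hφ in
theorem flat (hflat : φ.Flat) : φ'.Flat := by
  classical
  haveI : Fact (1 < p) := ⟨(Fact.out : p.Prime).one_lt⟩
  letI := φ.toAlgebra
  letI := φ'.toAlgebra
  haveI : Module.Flat A B := hflat
  show Module.Flat A' B'
  refine Module.Flat.of_forall_isTrivialRelation fun {l} {f} {x} hrel => ?_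
  obtain ⟨n₁, h₁⟩ := exists_common p i f
  obtain ⟨n₂, h₂⟩ := exists_common p j x
  obtain ⟨a, ha⟩ := h₁ _ (le_max_left n₁ n₂)
  obtain ⟨b, hb⟩ := h₂ _ (le_max_right n₁ n₂)
  let n := max n₁ n₂
  have hcomm : ∀ z, φ' (i z) = j (φ z) := fun z => RingHom.congr_fun hφ z
  have h0 : j (∑ t, φ (a t) * b t) = 0 := by
    have h := congrArg (iterateFrobenius B' p n) hrel
    rw [map_zero, map_sum] at h
    rw [map_sum, ← h]
    refine Finset.sum_congr rfl fun t _ => ?_
    rw [map_mul, ← hcomm, ha, hb, iterateFrobenius_def, Algebra.smul_def, RingHom.algebraMap_toAlgebra,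
      mul_pow, map_pow]
  obtain ⟨m, hm⟩ := mem_pNilradical.1 (IsPRadical.ker_le j p h0)
  have h1 : ∑ t, (a t ^ p ^ m) • (b t ^ p ^ m) = 0 := by
    rw [← hm, sum_pow_char_pow]
    refine Finset.sum_congr rfl fun t _ => ?_
    rw [Algebra.smul_def, RingHom.algebraMap_toAlgebra, mul_pow, map_pow]
  obtain ⟨k, c, y, hy, hc⟩ := Module.Flat.isTrivialRelation_of_sum_smul_eq_zero h1
  refine ⟨k, fun t s => (iterateFrobeniusEquiv A' p (n + m)).symm (i (c t s)),
    fun s => (iterateFrobeniusEquiv B' p (n + m)).symm (j (y s)), fun t => ?_, fun s => ?_⟩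
  · apply (iterateFrobeniusEquiv B' p (n + m)).injective
    rw [map_sum, iterateFrobeniusEquiv_def, pow_add, pow_mul, ← hb, ← map_pow, show b t ^ p ^ m = _ from hy t, map_sum]
    refine Finset.sum_congr rfl fun s _ => ?_
    rw [Algebra.smul_def, Algebra.smul_def, map_mul, map_mul, RingHom.algebraMap_toAlgebra,
      RingHom.algebraMap_toAlgebra, ← hcomm, RingEquiv.apply_symm_apply, iterateFrobeniusEquiv_def,
      ← map_pow φ', ← iterateFrobeniusEquiv_def A' p, RingEquiv.apply_symm_apply]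
  · apply (iterateFrobeniusEquiv A' p (n + m)).injective
    rw [map_sum, map_zero, ← map_zero i, ← hc s, map_sum]
    refine Finset.sum_congr rfl fun t _ => ?_
    rw [map_mul, map_mul, RingEquiv.apply_symm_apply, iterateFrobeniusEquiv_def, pow_add, pow_mul, ← ha,
      map_pow]

include p hφ in
theorem faithfullyFlat (hflat : φ.FaithfullyFlat) : φ'.FaithfullyFlat := by
  haveI : Fact (1 < p) := ⟨(Fact.out : p.Prime).one_lt⟩
  rw [RingHom.FaithfullyFlat.iff_flat_and_comap_surjective] at hflat ⊢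
  refine ⟨flat p φ i j φ' hφ hflat.1, fun P => ?_⟩
  have hhom : ∀ {K L : Type u} [CommRing K] [CommRing L] (ψ : K →+* L) [IsPRadical ψ p],
      IsHomeomorph (PrimeSpectrum.comap ψ) := fun {K L} _ _ ψ _ =>
    PrimeSpectrum.isHomeomorph_comap ψ (fun x => by
      obtain ⟨n, y, hy⟩ := IsPRadical.pow_mem ψ p x
      exact ⟨p ^ n, pow_pos (Fact.out : p.Prime).pos n, y, hy⟩)
      ((IsPRadical.ker_le ψ p).trans pNilradical_le_nilradical)
  obtain ⟨Q, hQ⟩ := hflat.2 (PrimeSpectrum.comap i P)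
  obtain ⟨Q', hQ'⟩ := (hhom j).bijective.2 Q
  refine ⟨Q', (hhom i).bijective.1 ?_⟩
  rw [← hQ, ← hQ', ← PrimeSpectrum.comap_comp_apply, hφ, PrimeSpectrum.comap_comp_apply]

end Groth.L16.PerfFlat
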